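import Mathlib
import Groth.Prelude.Def_W4c1liftfrobW2

/-! Twisted Witt vectors of a Frobenius splitting. -/

set_option autoImplicit false
set_option backward.isDefEq.respectTransparency false

universe u

open FrobAlg

noncomputable section

namespace Groth.Agent.W2Split

variable (p : ℕ) [Fact p.Prime] {A : Type u} [CommRing A]

/-- The element `(0, b)`. -/
def v (b : A) : W2 p A := WittVector.truncate 2 (WittVector.verschiebung (WittVector.teichmuller p b))

lemma v_coeff_zero (b : A) : res p A (v p b) = 0 := by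
  rw [v, res_truncate, WittVector.verschiebung_coeff_zero]

lemma v_coeff_one (b : A) : (v p b).coeff 1 = b := by
  rw [v, WittVector.coeff_truncate, show ((1 : Fin 2) : ℕ) = 0 + 1 from rfl, WittVector.verschiebung_coeff_succ,
    WittVector.teichmuller_coeff_zero]

lemma eq_v {x : W2 p A} (h : res p A x = 0) : x = v p (x.coeff 1) :=
  TruncatedWittVector.ext fun i => by
    fin_cases i
    · simpa [v_coeff_zero p] using (res_apply p A x).symm.trans (h.trans ((v_coeff_zero p (x.coeff 1)).symm.trans (res_apply p A _)))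
    · exact (v_coeff_one p _).symm

lemma v_add (a b : A) : v p a + v p b = v p (a + b) := by
  have h0 : res p A (v p a + v p b) = 0 := by rw [map_add, v_coeff_zero, v_coeff_zero, add_zero]
  rw [eq_v p h0]
  congr 1
  rw [v, v, ← map_add, ← map_add, WittVector.coeff_truncate, show ((1 : Fin 2) : ℕ) = 0 + 1 from rfl,
    WittVector.verschiebung_coeff_succ, WittVector.add_coeff_zero, WittVector.teichmuller_coeff_zero,
    WittVector.teichmuller_coeff_zero]

lemma v_mul (hp : (p : A) = 0) (b : A) (x : W2 p A) : v p b * x = v p (b * res p A x ^ p) := by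
  obtain ⟨X, rfl⟩ := WittVector.truncate_surjective p 2 A x
  have h0 : res p A (v p b * WittVector.truncate 2 X) = 0 := by rw [map_mul, v_coeff_zero, zero_mul]
  rw [eq_v p h0]
  congr 1
  rw [v, ← map_mul, ← WittVector.verschiebung_mul_frobenius, WittVector.coeff_truncate,
    show ((1 : Fin 2) : ℕ) = 0 + 1 from rfl, WittVector.verschiebung_coeff_succ, WittVector.mul_coeff_zero,
    WittVector.teichmuller_coeff_zero, res_truncate]
  congr 1
  rcases subsingleton_or_nontrivial A with hA | hA
  · exact Subsingleton.elim _ _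
  · have : CharP A p := (CharP.charP_iff_prime_eq_zero Fact.out).mpr hp
    rw [WittVector.coeff_frobenius_charP]

lemma v_zero : v p (0 : A) = 0 := by
  have := v_add p (0 : A) 0
  rw [add_zero] at this
  simpa using this

/-- The Witt vectors `(0, b)` with `φ b = 0`. -/
def kerPhi (hp : (p : A) = 0) (φ : A →+ A) (hφ : ∀ a b : A, φ (a ^ p * b) = a * φ b) : Ideal (W2 p A) where
  carrier := {x | res p A x = 0 ∧ φ (x.coeff 1) = 0}
  zero_mem' := ⟨map_zero _, by rw [← v_zero p, v_coeff_one, map_zero]⟩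
  add_mem' := by
    rintro x y ⟨hx, hx'⟩ ⟨hy, hy'⟩
    refine ⟨by rw [map_add, hx, hy, add_zero], ?_⟩
    rw [eq_v p hx, eq_v p hy, v_add, v_coeff_one, map_add, hx', hy', add_zero]
  smul_mem' := by
    rintro c x ⟨hx, hx'⟩
    refine ⟨by rw [smul_eq_mul, map_mul, hx, mul_zero], ?_⟩
    rw [smul_eq_mul, mul_comm, eq_v p hx, v_mul p hp, v_coeff_one, mul_comm, hφ, hx', mul_zero]

lemma splitIdeal_eq (hp : (p : A) = 0) (φ : A →+ A) (hφ : ∀ a b : A, φ (a ^ p * b) = a * φ b) :
    splitIdeal p A φ = kerPhi p hp φ hφ := Ideal.span_eq (kerPhi p hp φ hφ)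

lemma flat_of_sq_zero {R B : Type u} [CommRing R] [CommRing B] (ι : R →+* B) (ε : R) (h2 : ε * ε = 0)
    (hR : ∀ r : R, IsUnit r ∨ r ∈ Ideal.span {ε}) (hB : ∀ x : B, ι ε * x = 0 → ∃ y, x = ι ε * y) : ι.Flat := by
  letI := ι.toAlgebra
  show Module.Flat R B
  refine Module.Flat.iff_lift_lsmul_comp_subtype_injective.2 fun I hI => ?_
  rw [injective_iff_map_eq_zero]
  intro z hz
  have hsmul : ∀ (r : R) (x : B), r • x = ι r * x := fun r x => rfl
  by_cases hI1 : ∃ r ∈ I, IsUnit r
  · obtain ⟨r, hr, hu⟩ := hI1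
    have hz' : ∀ w : TensorProduct R I B, ∃ x : B, w = (⟨1, by
        obtain ⟨u, rfl⟩ := hu
        simpa using I.mul_mem_left ((u⁻¹ : Rˣ) : R) hr⟩ : I) ⊗ₜ[R] x := by
      intro w
      induction w using TensorProduct.induction_on with
      | zero => exact ⟨0, by rw [TensorProduct.tmul_zero]⟩
      | tmul i x => exact ⟨(i : R) • x, by rw [← TensorProduct.smul_tmul]; congr 1; exact Subtype.ext (by simp)⟩
      | add a b ha hb =>
        obtain ⟨x, rfl⟩ := ha
        obtain ⟨y, rfl⟩ := hb
        exact ⟨x + y, by rw [TensorProduct.tmul_add]⟩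
    obtain ⟨x, rfl⟩ := hz' z
    have : x = 0 := by simpa using hz
    rw [this, TensorProduct.tmul_zero]
  push Not at hI1
  have hle : I ≤ Ideal.span {ε} := fun r hr => (hR r).resolve_left (hI1 r hr)
  by_cases hε : ε ∈ I
  · have hz' : ∀ w : TensorProduct R I B, ∃ x : B, w = (⟨ε, hε⟩ : I) ⊗ₜ[R] x := by
      intro w
      induction w using TensorProduct.induction_on with
      | zero => exact ⟨0, by rw [TensorProduct.tmul_zero]⟩
      | tmul i x =>
        obtain ⟨c, hc⟩ := Ideal.mem_span_singleton'.1 (hle i.2)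
        exact ⟨c • x, by rw [← TensorProduct.smul_tmul]; congr 1; exact Subtype.ext (by simp [hc])⟩
      | add a b ha hb =>
        obtain ⟨x, rfl⟩ := ha
        obtain ⟨y, rfl⟩ := hb
        exact ⟨x + y, by rw [TensorProduct.tmul_add]⟩
    obtain ⟨x, rfl⟩ := hz' z
    obtain ⟨y, rfl⟩ := hB x (by simpa [hsmul] using hz)
    rw [← hsmul, ← TensorProduct.smul_tmul, show ε • (⟨ε, hε⟩ : I) = 0 from Subtype.ext (by simp [h2]),
      TensorProduct.zero_tmul]
  · have hI0 : ∀ i : I, i = 0 := fun i => by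
      obtain ⟨c, hc⟩ := Ideal.mem_span_singleton'.1 (hle i.2)
      apply Subtype.ext
      rcases hR c with hu | hc'
      · exfalso
        apply hε
        obtain ⟨u, rfl⟩ := hu
        rw [show ε = ((u⁻¹ : Rˣ) : R) * (i : R) from by rw [← hc, ← mul_assoc, Units.inv_mul, one_mul]]
        exact I.mul_mem_left _ i.2
      · obtain ⟨d, rfl⟩ := Ideal.mem_span_singleton'.1 hc'
        rw [ZeroMemClass.coe_zero, ← hc, mul_assoc, h2, mul_zero]
    induction z using TensorProduct.induction_on with
    | zero => rfl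
    | tmul i x => rw [hI0 i, TensorProduct.zero_tmul]
    | add a b _ _ =>
      have : ∀ w : TensorProduct R I B, w = 0 := fun w => by
        induction w using TensorProduct.induction_on with
        | zero => rfl
        | tmul i x => rw [hI0 i, TensorProduct.zero_tmul]
        | add _ _ ha hb => rw [ha, hb, add_zero]
      exact this _

theorem isLift (k : Type u) [Field k] [CharP k p] [PerfectRing k p] [Algebra k A] (φ : A →+ A)
    (hφ : ∀ a b : A, φ (a ^ p * b) = a * φ b) (hφ1 : φ 1 = 1) :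
    IsLift p k A (W2 p A ⧸ splitIdeal p A φ)
      ((Ideal.Quotient.mk (splitIdeal p A φ)).comp (WittGrp.truncMap p 2 (algebraMap k A)))
      (splitRes p A φ) := by
  have hp : (p : A) = 0 := by rw [← map_natCast (algebraMap k A), CharP.cast_eq_zero, map_zero]
  have hres : ∀ x : W2 p k, res p A (WittGrp.truncMap p 2 (algebraMap k A) x) = algebraMap k A (res p k x) := fun x => by
    rw [res_apply, res_apply]
    exact TruncatedWittVector.coeff_mk (p := p) (fun i => algebraMap k A (x.coeff i)) 0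
  have hcoeff : ∀ x : W2 p k, (WittGrp.truncMap p 2 (algebraMap k A) x).coeff 1 = algebraMap k A (x.coeff 1) := fun x =>
    TruncatedWittVector.coeff_mk (p := p) (fun i => algebraMap k A (x.coeff i)) 1
  have hv : ∀ c : k, WittGrp.truncMap p 2 (algebraMap k A) (v p c) = v p (algebraMap k A c) := fun c => by
    have h0 : res p A (WittGrp.truncMap p 2 (algebraMap k A) (v p c)) = 0 := by
      rw [hres, v_coeff_zero, map_zero]
    rw [eq_v p h0, hcoeff, v_coeff_one]
  have hpk : (p : k) = 0 := CharP.cast_eq_zero k p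
  have hroot : ∀ c : k, ∃ d : k, d ^ p = c := fun c => ⟨(frobeniusEquiv k p).symm c, frobeniusEquiv_symm_pow_p k p c⟩
  have hspan : ∀ r : W2 p k, res p k r = 0 → r ∈ Ideal.span {v p (1 : k)} := fun r hr => by
    obtain ⟨d, hd⟩ := hroot (r.coeff 1)
    obtain ⟨y, hy⟩ : ∃ y : W2 p k, res p k y = d :=
      ⟨WittVector.truncate 2 (WittVector.teichmuller p d), by rw [res_truncate, WittVector.teichmuller_coeff_zero]⟩
    exact Ideal.mem_span_singleton'.2 ⟨y, by rw [mul_comm, v_mul p hpk, one_mul, hy, hd, ← eq_v p hr]⟩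
  set ι := (Ideal.Quotient.mk (splitIdeal p A φ)).comp (WittGrp.truncMap p 2 (algebraMap k A))
  have hι : ι (v p (1 : k)) = Ideal.Quotient.mk (splitIdeal p A φ) (v p (1 : A)) := by
    show Ideal.Quotient.mk _ (WittGrp.truncMap p 2 (algebraMap k A) (v p (1 : k))) = _
    rw [hv, map_one]
  have key : ∀ x : W2 p A, res p A x = 0 → ∃ y : W2 p A,
      Ideal.Quotient.mk (splitIdeal p A φ) x = ι (v p (1 : k)) * Ideal.Quotient.mk _ y := fun x hx => by
    obtain ⟨y, hy⟩ : ∃ y : W2 p A, res p A y = φ (x.coeff 1) :=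
      ⟨WittVector.truncate 2 (WittVector.teichmuller p _), by rw [res_truncate, WittVector.teichmuller_coeff_zero]⟩
    refine ⟨y, ?_⟩
    rw [hι, ← map_mul, v_mul p hp, one_mul, hy, Ideal.Quotient.eq, splitIdeal_eq p hp φ hφ]
    have h0 : res p A (x - v p (φ (x.coeff 1) ^ p)) = 0 := by rw [map_sub, hx, v_coeff_zero, sub_zero]
    refine ⟨h0, ?_⟩
    have e : x - v p (φ (x.coeff 1) ^ p) = v p (x.coeff 1 - φ (x.coeff 1) ^ p) := by
      rw [sub_eq_iff_eq_add, v_add, sub_add_cancel, ← eq_v p hx]
    rw [e, v_coeff_one, map_sub, ← mul_one (φ (x.coeff 1) ^ p), hφ, hφ1, mul_one, sub_self]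
  refine ⟨flat_of_sq_zero _ (v p (1 : k)) ?_ ?_ ?_, fun a => ?_, ?_, RingHom.ext fun x => hres x⟩
  · rw [v_mul p hpk, v_coeff_zero, zero_pow (Fact.out : p.Prime).ne_zero, mul_zero, v_zero]
  · intro r
    by_cases h : res p k r = 0
    · exact Or.inr (hspan r h)
    · left
      obtain ⟨y, hy⟩ : ∃ y : W2 p k, res p k y = (res p k r)⁻¹ :=
        ⟨WittVector.truncate 2 (WittVector.teichmuller p _), by rw [res_truncate, WittVector.teichmuller_coeff_zero]⟩
      have hn : IsNilpotent (r * y - 1) := by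
        obtain ⟨c, hc⟩ := Ideal.mem_span_singleton'.1 (hspan (r * y - 1) (by rw [map_sub, map_mul, hy, mul_inv_cancel₀ h, map_one, sub_self]))
        refine ⟨2, ?_⟩
        rw [← hc, mul_pow, sq (v p (1 : k)), v_mul p hpk, v_coeff_zero, zero_pow (Fact.out : p.Prime).ne_zero,
          mul_zero, v_zero, mul_zero]
      exact isUnit_of_mul_isUnit_left (y := y) (by simpa using hn.isUnit_one_add)
  · intro x hx
    obtain ⟨x, rfl⟩ := Ideal.Quotient.mk_surjective x
    have hx0 : res p A x = 0 := by
      rw [hι, ← map_mul, v_mul p hp, one_mul, Ideal.Quotient.eq_zero_iff_mem, splitIdeal_eq p hp φ hφ] at hx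
      have h2 := hx.2
      rwa [v_coeff_one, ← mul_one (res p A x ^ p), hφ, hφ1, mul_one] at h2
    obtain ⟨y, hy⟩ := key x hx0
    exact ⟨_, hy⟩
  · exact ⟨Ideal.Quotient.mk _ (WittVector.truncate 2 (WittVector.teichmuller p a)), by
      show res p A _ = a
      rw [res_truncate, WittVector.teichmuller_coeff_zero]⟩
  · refine le_antisymm (fun x hx => ?_) (Ideal.map_le_iff_le_comap.2 fun x hx => ?_)
    · obtain ⟨x, rfl⟩ := Ideal.Quotient.mk_surjective x
      obtain ⟨y, hy⟩ := key x hx
      rw [hy]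
      exact Ideal.mul_mem_right _ _ (Ideal.mem_map_of_mem _ (v_coeff_zero p _))
    · show res p A (WittGrp.truncMap p 2 (algebraMap k A) x) = 0
      rw [hres, show res p k x = 0 from hx, map_zero]

end Groth.Agent.W2Split
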